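import Cfsg.Agent.Classical.Transvections
import Cfsg.Agent.RegUnip.Gen
import Cfsg.Agent.RegUnip.Finish

/-!
# Two-element generation of `SL_{n+1}` by the cyclic monomial matrix
-/

set_option autoImplicit false

namespace CfsgLib.SLGen

open Matrix

variable {K : Type*} [Field K]

section
variable {ι : Type} [Fintype ι] [DecidableEq ι]

/-- The parameters of a root group inside `M`. -/
def rootS (M : Subgroup (Matrix.SpecialLinearGroup ι K)) {i j : ι} (h : i ≠ j) : AddSubgroup K where
  carrier := {c | Matrix.SpecialLinearGroup.transvection h c ∈ M}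
  zero_mem' := by
    change Matrix.SpecialLinearGroup.transvection h (0 : K) ∈ M
    convert M.one_mem
    exact Subtype.ext (by rw [CfsgLib.Linear.transvec_coe, Matrix.transvection_zero]; rfl)
  add_mem' {a b} ha hb := by
    change Matrix.SpecialLinearGroup.transvection h (a + b) ∈ M
    convert M.mul_mem ha hb
    exact Subtype.ext (by
      rw [Matrix.SpecialLinearGroup.coe_mul, CfsgLib.Linear.transvec_coe, CfsgLib.Linear.transvec_coe,
        CfsgLib.Linear.transvec_coe]
      exact (Matrix.transvection_mul_transvection_same _ _ h _ _).symm)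
  neg_mem' {a} ha := by
    change Matrix.SpecialLinearGroup.transvection h (-a) ∈ M
    rw [← Matrix.SpecialLinearGroup.transvection_inv]
    exact M.inv_mem ha

theorem diag_conj {D : Matrix.SpecialLinearGroup ι K} {d : ι → K}
    (hD : (D : Matrix ι ι K) = Matrix.diagonal d) {i j : ι} (h : i ≠ j) {c c' : K} (e : d i * c = c' * d j) :
    D * Matrix.SpecialLinearGroup.transvection h c * D⁻¹ = Matrix.SpecialLinearGroup.transvection h c' := by
  rw [mul_inv_eq_iff_eq_mul]
  refine Subtype.ext ?_
  ext a b
  simp only [Matrix.SpecialLinearGroup.coe_mul, CfsgLib.Linear.transvec_coe, hD, Matrix.transvection,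
    Matrix.diagonal_mul, Matrix.mul_diagonal, Matrix.add_apply, Matrix.one_apply, Matrix.single_apply]
  rcases eq_or_ne a b with rfl | hab
  · simp only [if_true]
    rw [if_neg (fun hh : i = a ∧ j = a => h (hh.1.trans hh.2.symm)),
      if_neg (fun hh : i = a ∧ j = a => h (hh.1.trans hh.2.symm))]
    ring
  · simp only [if_neg hab, zero_add]
    by_cases hh : i = a ∧ j = b
    · rw [if_pos hh, if_pos hh, ← hh.1, ← hh.2, e]
    · rw [if_neg hh, if_neg hh, mul_zero, zero_mul]

theorem shift {w : Matrix.SpecialLinearGroup ι K} {i i' j j' : ι} (h : i ≠ j) (h' : i' ≠ j') {s t : K}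
    (hi : ∀ a, (w : Matrix ι ι K) a i = if a = i' then s else 0)
    (hj : ∀ b, (w : Matrix ι ι K) j' b = if b = j then t else 0) {c c' : K} (e : s * c = c' * t) :
    w * Matrix.SpecialLinearGroup.transvection h c * w⁻¹ = Matrix.SpecialLinearGroup.transvection h' c' := by
  rw [mul_inv_eq_iff_eq_mul]
  refine Subtype.ext ?_
  rw [Matrix.SpecialLinearGroup.coe_mul, Matrix.SpecialLinearGroup.coe_mul, CfsgLib.Linear.transvec_coe,
    CfsgLib.Linear.transvec_coe, Matrix.transvection, Matrix.transvection, mul_add, add_mul, mul_one,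
    one_mul, add_right_inj]
  ext a b
  by_cases ha : a = i' <;> by_cases hb : b = j
  · subst ha; subst hb
    simp only [Matrix.mul_single_apply_same, Matrix.single_mul_apply_same, hi, hj, if_true]
    exact e
  · subst ha
    simp [Matrix.mul_single_apply_of_ne _ _ _ _ _ hb, hj, hb]
  · subst hb
    simp [Matrix.single_mul_apply_of_ne _ _ _ _ _ ha, hi, ha]
  · simp [Matrix.mul_single_apply_of_ne _ _ _ _ _ hb, Matrix.single_mul_apply_of_ne _ _ _ _ _ ha]

end

variable {n : ℕ}

/-- The cyclic monomial matrix. -/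
def cyc (n : ℕ) (K : Type*) [Field K] : Matrix (Fin (n + 1)) (Fin (n + 1)) K :=
  Matrix.of (fun i j => if j.val = i.val + 1 then 1 else if i.val = n ∧ j.val = 0 then (-1) ^ n else 0)

theorem cyc_row (a b : Fin (n + 1)) (j : Fin (n + 1)) (hj : j.val = a.val + 1) :
    cyc n K a b = if b = j then 1 else 0 := by
  simp only [cyc, Matrix.of_apply, Fin.ext_iff, hj]
  have := j.isLt
  split_ifs <;> first | rfl | omega

theorem cyc_col (a i i' : Fin (n + 1)) (hi : i.val = i'.val + 1) :
    cyc n K a i = if a = i' then 1 else 0 := by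
  simp only [cyc, Matrix.of_apply, Fin.ext_iff, hi, Nat.succ_ne_zero, and_false, if_false]
  split_ifs <;> first | rfl | contradiction | omega

/-- A full fundamental root group and the cyclic matrix generate. -/
theorem eq_top_of_cyc (hn : 1 ≤ n) (M : Subgroup (Matrix.SpecialLinearGroup (Fin (n + 1)) K))
    {w : Matrix.SpecialLinearGroup (Fin (n + 1)) K} (hw : w ∈ M)
    (hw' : (w : Matrix (Fin (n + 1)) (Fin (n + 1)) K) = cyc n K)
    (h01 : ∀ (h : (0 : Fin (n + 1)) ≠ 1) (c : K), Matrix.SpecialLinearGroup.transvection h c ∈ M) :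
    M = ⊤ := by
  have hone : ((1 : Fin (n + 1)) : ℕ) = 1 := by simp [Fin.val_one', Nat.mod_eq_of_lt (show 1 < n + 1 by omega)]
  haveI : Nontrivial (Fin (n + 1)) := ⟨⟨0, 1, fun e => by
    have := congrArg Fin.val e; rw [hone] at this; simp at this⟩⟩
  -- the superdiagonal
  have hsup : ∀ (l : ℕ) (a b : Fin (n + 1)) (h : a ≠ b), a.val = l → b.val = l + 1 →
      ∀ c, Matrix.SpecialLinearGroup.transvection h c ∈ M := by
    intro l
    induction l with
    | zero =>
      intro a b h ha hb c
      obtain rfl : a = 0 := Fin.ext ha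
      obtain rfl : b = 1 := Fin.ext (by rw [hb, hone])
      exact h01 h c
    | succ l ih =>
      intro a b h ha hb c
      let a' : Fin (n + 1) := ⟨l, by omega⟩
      let b' : Fin (n + 1) := ⟨l + 1, by omega⟩
      have h' : a' ≠ b' := fun e => by have := congrArg Fin.val e; simp [a', b'] at this
      have e := shift (w := w) h h' (s := 1) (t := 1) (c := c) (c' := c)
        (fun x => by rw [hw']; exact cyc_col x a a' (by simp [a', ha]))
        (fun x => by rw [hw']; exact cyc_row b' x b (by simp [b', hb])) (by ring)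
      rw [mul_inv_eq_iff_eq_mul, ← eq_inv_mul_iff_mul_eq] at e
      rw [e]
      exact mul_mem (inv_mem hw) (mul_mem (ih a' b' h' rfl rfl c) hw)
  -- upper triangle
  have hup : ∀ (d : ℕ) (a b : Fin (n + 1)) (h : a ≠ b), b.val = a.val + d + 1 →
      ∀ c, Matrix.SpecialLinearGroup.transvection h c ∈ M := by
    intro d
    induction d with
    | zero => exact fun a b h hb c => hsup a.val a b h rfl (by omega) c
    | succ d ih =>
      intro a b h hb c
      let k : Fin (n + 1) := ⟨a.val + d + 1, by omega⟩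
      have h1 : a ≠ k := fun e => by have := congrArg Fin.val e; simp [k] at this; omega
      have h2 : k ≠ b := fun e => by have := congrArg Fin.val e; simp [k] at this; omega
      rw [CfsgLib.Linear.transvection_commutator_three h h1 h2 c, commutatorElement_def]
      exact mul_mem (mul_mem (mul_mem (ih a k h1 rfl c) (hsup k.val k b h2 rfl (by simp [k]; omega) 1))
        (inv_mem (ih a k h1 rfl c))) (inv_mem (hsup k.val k b h2 rfl (by simp [k]; omega) 1))
  have hup' : ∀ (a b : Fin (n + 1)) (h : a ≠ b), a.val < b.val →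
      ∀ c, Matrix.SpecialLinearGroup.transvection h c ∈ M :=
    fun a b h hab c => hup (b.val - a.val - 1) a b h (by omega) c
  -- the corner
  have hcor : ∀ (h : (Fin.last n) ≠ (0 : Fin (n + 1))) (c : K),
      Matrix.SpecialLinearGroup.transvection h c ∈ M := by
    intro h c
    have h' : (0 : Fin (n + 1)) ≠ 1 := fun e => by
      have := congrArg Fin.val e; rw [hone] at this; simp at this
    have e := shift (w := w) h' h (s := (-1) ^ n) (t := 1) (c := (-1) ^ n * c) (c' := c)
      (fun x => by
        rw [hw']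
        simp only [cyc, Matrix.of_apply, Fin.ext_iff, Fin.val_last, Fin.val_zero, and_true]
        split_ifs <;> first | rfl | contradiction | omega)
      (fun x => by rw [hw']; exact cyc_row 0 x 1 (by rw [hone]; simp))
      (by rw [← mul_assoc, ← mul_pow, neg_one_mul, neg_neg, one_pow]; ring)
    rw [← e]
    exact mul_mem (mul_mem hw (h01 h' _)) (inv_mem hw)
  have hcomm : ∀ (a k b : Fin (n + 1)) (h : a ≠ b) (h1 : a ≠ k) (h2 : k ≠ b),
      (∀ c, Matrix.SpecialLinearGroup.transvection h1 c ∈ M) →
      (∀ c, Matrix.SpecialLinearGroup.transvection h2 c ∈ M) →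
      ∀ c, Matrix.SpecialLinearGroup.transvection h c ∈ M := fun a k b h h1 h2 f1 f2 c => by
    rw [CfsgLib.Linear.transvection_commutator_three h h1 h2 c, commutatorElement_def]
    exact mul_mem (mul_mem (mul_mem (f1 c) (f2 1)) (inv_mem (f1 c))) (inv_mem (f2 1))
  -- first column
  have hcol : ∀ (a : Fin (n + 1)) (h : a ≠ 0) (c : K), Matrix.SpecialLinearGroup.transvection h c ∈ M := by
    intro a h c
    rcases eq_or_ne a (Fin.last n) with rfl | ha
    · exact hcor h c
    · have hn0 : Fin.last n ≠ (0 : Fin (n + 1)) := fun e => by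
        have := congrArg Fin.val e; simp at this; omega
      refine hcomm a (Fin.last n) 0 h ha hn0 (hup' _ _ ha ?_) (hcor hn0) c
      exact lt_of_le_of_ne (Fin.le_last a) (fun e => ha (Fin.ext e))
  refine eq_top_iff.2 fun A _ => ?_
  refine CfsgLib.Linear.transvection_induction (fun A => A ∈ M) ?_ (fun _ _ hA hB => mul_mem hA hB) A
  intro a b h c
  rcases lt_or_gt_of_ne (fun e => h (Fin.ext e) : a.val ≠ b.val) with hab | hab
  · exact hup' a b h hab c
  · rcases eq_or_ne b 0 with rfl | hb
    · exact hcol a h c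
    · have ha : a ≠ 0 := fun e => by rw [e] at hab; simp at hab
      have hb' : (0 : Fin (n + 1)) ≠ b := hb.symm
      exact hcomm a 0 b h ha hb' (hcol a ha) (hup' 0 b hb' (Nat.pos_of_ne_zero fun e => hb (Fin.ext e))) c

theorem gen_large [Fintype K] (hK : 3 < Fintype.card K) (hn : 1 ≤ n) (k : Kˣ)
    (hk : ∀ u : Kˣ, u ∈ Subgroup.zpowers k)
    (h x w : Matrix.SpecialLinearGroup (Fin (n + 1)) K)
    (hh : (h : Matrix (Fin (n + 1)) (Fin (n + 1)) K) =
      Matrix.diagonal (fun i => if i.val = 0 then (k : K) else if i.val = 1 then ((k⁻¹ : Kˣ) : K) else 1))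
    (hx : (x : Matrix (Fin (n + 1)) (Fin (n + 1)) K) = Matrix.transvection (0 : Fin (n + 1)) (1 : Fin (n + 1)) 1)
    (hw : (w : Matrix (Fin (n + 1)) (Fin (n + 1)) K) = cyc n K) :
    Subgroup.closure ({h, x * w} : Set (Matrix.SpecialLinearGroup (Fin (n + 1)) K)) = ⊤ := by
  classical
  set M := Subgroup.closure ({h, x * w} : Set (Matrix.SpecialLinearGroup (Fin (n + 1)) K))
  have hhM : h ∈ M := Subgroup.subset_closure (by simp)
  have haM : x * w ∈ M := Subgroup.subset_closure (by simp)
  have hone : ((1 : Fin (n + 1)) : ℕ) = 1 := by simp [Fin.val_one', Nat.mod_eq_of_lt (show 1 < n + 1 by omega)]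
  have h01 : (0 : Fin (n + 1)) ≠ 1 := fun e => by
    have := congrArg Fin.val e; rw [hone] at this; simp at this
  have hk0 : (k : K) ≠ 0 := k.ne_zero
  have hord : orderOf (k : K) = Fintype.card K - 1 := by
    rw [orderOf_units, orderOf_eq_card_of_forall_mem_zpowers hk, Nat.card_eq_fintype_card,
      Fintype.card_units]
  have hk2 : (k : K) ^ 2 ≠ 1 := fun e => by
    have := Nat.le_of_dvd two_pos (orderOf_dvd_of_pow_eq_one e)
    omega
  have hk1 : (k : K) ≠ 1 := fun e => hk2 (by rw [e, one_pow])
  set f : Fin (n + 1) → K :=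
    fun i => if i.val = 0 then (k : K) else if i.val = 1 then ((k⁻¹ : Kˣ) : K) else 1 with hf
  have hxT : x = Matrix.SpecialLinearGroup.transvection h01 (1 : K) :=
    Subtype.ext (by rw [CfsgLib.Linear.transvec_coe, hx])
  set d : Fin (n + 1) → K :=
    fun i => if i.val = 0 then ((k⁻¹ : Kˣ) : K) else if i.val = n then (k : K) else 1 with hd
  set D := w * h * w⁻¹ with hD
  have hDm : (D : Matrix (Fin (n + 1)) (Fin (n + 1)) K) = Matrix.diagonal d := by
    have e : (D : Matrix (Fin (n + 1)) (Fin (n + 1)) K) * cyc n K = cyc n K * Matrix.diagonal f := by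
      rw [← hw, ← Matrix.SpecialLinearGroup.coe_mul, hD, inv_mul_cancel_right,
        Matrix.SpecialLinearGroup.coe_mul, hh, hw]
    have e2 : Matrix.diagonal d * cyc n K = cyc n K * Matrix.diagonal f := by
      ext a b
      simp only [Matrix.diagonal_mul, Matrix.mul_diagonal, cyc, Matrix.of_apply, hd, hf]
      have hb := b.isLt
      have ha := a.isLt
      split_ifs <;> first | (exfalso; omega) | ring
    have hu : IsUnit (cyc n K) := (Matrix.isUnit_iff_isUnit_det _).2 (by rw [← hw, w.2]; exact isUnit_one)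
    exact hu.mul_right_cancel (e.trans e2.symm)
  have hdet : ∀ i, d i ≠ 0 := fun i => by
    simp only [hd]; split_ifs <;> simp
  have hdi : d 1 ≠ 0 := hdet 1
  -- commutation with the torus
  have hcomm : h * D = D * h := Subtype.ext (by
    rw [Matrix.SpecialLinearGroup.coe_mul h D, Matrix.SpecialLinearGroup.coe_mul D h, hDm, hh,
      Matrix.diagonal_mul_diagonal, Matrix.diagonal_mul_diagonal]
    congr 1
    funext i
    ring)
  have hconjh : ∀ c, h * Matrix.SpecialLinearGroup.transvection h01 c * h⁻¹ =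
      Matrix.SpecialLinearGroup.transvection h01 ((k : K) ^ 2 * c) := fun c => by
    refine diag_conj hh h01 ?_
    simp only [hf, Fin.val_zero, hone, one_ne_zero, if_true, if_false]
    rw [Units.val_inv_eq_inv_val]
    field_simp
  have hT : ∀ a : K, (Matrix.SpecialLinearGroup.transvection h01 a)⁻¹ =
      Matrix.SpecialLinearGroup.transvection h01 (-a) := fun a => Matrix.SpecialLinearGroup.transvection_inv h01 a
  have hadd : ∀ a b : K, Matrix.SpecialLinearGroup.transvection h01 a * Matrix.SpecialLinearGroup.transvection h01 b =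
      Matrix.SpecialLinearGroup.transvection h01 (a + b) := fun a b => Subtype.ext (by
    rw [Matrix.SpecialLinearGroup.coe_mul, CfsgLib.Linear.transvec_coe, CfsgLib.Linear.transvec_coe,
      CfsgLib.Linear.transvec_coe, Matrix.transvection_mul_transvection_same _ _ h01])
  set y := x * w * h * (x * w)⁻¹
  have hy : y = x * D * x⁻¹ := by simp only [y, hD]; group
  have hc0 : Matrix.SpecialLinearGroup.transvection h01
      (((k : K) ^ 2 - 1) * (1 - d 0 / d 1)) = h * y * h⁻¹ * y⁻¹ := by
    rw [hy, hxT]
    set T1 := Matrix.SpecialLinearGroup.transvection h01 (1 : K)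
    rw [show h * (T1 * D * T1⁻¹) * h⁻¹ * (T1 * D * T1⁻¹)⁻¹ =
      (h * T1 * h⁻¹) * (h * D * h⁻¹) * (h * T1 * h⁻¹)⁻¹ * T1 * D⁻¹ * T1⁻¹ by group,
      hcomm, mul_inv_cancel_right, hconjh, hT, hT, mul_assoc _ _ T1, hadd,
      mul_assoc _ D, mul_assoc _ (D * _), diag_conj hDm h01
        (c' := d 0 * (-((k : K) ^ 2 * 1) + 1) / d 1) (by field_simp), hadd, hadd]
    congr 1
    field_simp
    ring
  have hd01 : d 0 / d 1 ≠ 1 := by
    rw [ne_eq, div_eq_one_iff_eq hdi]
    simp only [hd, Fin.val_zero, hone, one_ne_zero, if_true, if_false]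
    split_ifs <;> intro e <;> rw [Units.val_inv_eq_inv_val] at e
    · refine hk2 ?_; field_simp at e; linear_combination -e
    · exact hk1 (inv_eq_one.1 e)
  have hall : ∀ c : K, c ∈ rootS M h01 := by
    refine CfsgLib.RegUnip.forall_mem_of_generator (S := rootS M h01)
      (CfsgLib.RegUnip.closure_pow_eq_top hord two_pos (by omega))
      (a₀ := ((k : K) ^ 2 - 1) * (1 - d 0 / d 1)) ?_ ?_ fun c hc => ?_
    · change Matrix.SpecialLinearGroup.transvection h01 _ ∈ M
      rw [hc0]
      have hyM : y ∈ M := mul_mem (mul_mem haM hhM) (inv_mem haM)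
      exact mul_mem (mul_mem (mul_mem hhM hyM) (inv_mem hhM)) (inv_mem hyM)
    · exact mul_ne_zero (sub_ne_zero.2 hk2) (sub_ne_zero.2 (Ne.symm hd01))
    · change Matrix.SpecialLinearGroup.transvection h01 _ ∈ M
      rw [← hconjh]
      exact mul_mem (mul_mem hhM hc) (inv_mem hhM)
  refine eq_top_of_cyc hn M ?_ hw fun _ c => hall c
  have : w = x⁻¹ * (x * w) := by group
  rw [this]
  exact mul_mem (inv_mem (hxT ▸ hall 1)) haM

theorem gen_small [Fintype K] (hK : Fintype.card K ≤ 3) (hn : 1 ≤ n)
    (x w : Matrix.SpecialLinearGroup (Fin (n + 1)) K)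
    (hx : (x : Matrix (Fin (n + 1)) (Fin (n + 1)) K) = Matrix.transvection (0 : Fin (n + 1)) (1 : Fin (n + 1)) 1)
    (hw : (w : Matrix (Fin (n + 1)) (Fin (n + 1)) K) = cyc n K) :
    Subgroup.closure ({x, w} : Set (Matrix.SpecialLinearGroup (Fin (n + 1)) K)) = ⊤ := by
  refine eq_top_of_cyc hn (Subgroup.closure ({x, w} : Set (Matrix.SpecialLinearGroup (Fin (n + 1)) K)))
    (Subgroup.subset_closure (by simp)) hw fun h c => ?_
  have hp : (Fintype.card K).Prime := by
    have := Fintype.one_lt_card (α := K)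
    interval_cases hq : Fintype.card K <;> norm_num
  refine CfsgLib.RegUnip.forall_mem_of_generator
    (S := rootS (Subgroup.closure ({x, w} : Set (Matrix.SpecialLinearGroup (Fin (n + 1)) K))) h)
    (CfsgLib.RegUnip.closure_eq_top_of_prime hp (1 : K)) (a₀ := 1) ?_ one_ne_zero
    (fun y hy => by rwa [one_mul]) c
  change Matrix.SpecialLinearGroup.transvection h (1 : K) ∈
    Subgroup.closure ({x, w} : Set (Matrix.SpecialLinearGroup (Fin (n + 1)) K))
  have he : Matrix.SpecialLinearGroup.transvection h (1 : K) = x :=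
    Subtype.ext (by rw [CfsgLib.Linear.transvec_coe, hx])
  rw [he]
  exact Subgroup.subset_closure (by simp)

end CfsgLib.SLGen
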